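import Cfsg.Agent.PSpFourCover.GLTwo

/-!
# Shifting the upper left block of a symplectic `4 × 4` matrix
-/

set_option autoImplicit false

namespace CfsgLib.PSpFourCover

open Matrix

variable {F : Type*} [Field F]

/-- `A` is either the identity, or has trace `≠ 2` and is not scalar. -/
def Good (A : Matrix (Fin 2) (Fin 2) F) : Prop := A = 1 ∨ (A.trace ≠ 2 ∧ ¬ IsScal A)

theorem mul_inv_transpose_eq {n : Type*} [Fintype n] [DecidableEq n] {M C : Matrix n n F}
    (h : Mᵀ * C = Cᵀ * M) (hC : IsUnit C.det) : (M * C⁻¹)ᵀ = M * C⁻¹ := by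
  have hC' : IsUnit Cᵀ.det := by rwa [Matrix.det_transpose]
  calc (M * C⁻¹)ᵀ = Cᵀ⁻¹ * Mᵀ := by rw [Matrix.transpose_mul, Matrix.transpose_nonsing_inv]
    _ = Cᵀ⁻¹ * Mᵀ * (C * C⁻¹) := by rw [Matrix.mul_nonsing_inv _ hC, Matrix.mul_one]
    _ = Cᵀ⁻¹ * (Mᵀ * C) * C⁻¹ := by simp only [Matrix.mul_assoc]
    _ = Cᵀ⁻¹ * (Cᵀ * M) * C⁻¹ := by rw [h]
    _ = _ := by rw [Matrix.nonsing_inv_mul_cancel_left _ _ hC']

theorem exists_three (hq : 3 ≤ Nat.card F) [Finite F] : ∃ w : F, w ≠ 0 ∧ w ≠ 1 := by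
  classical
  haveI := Fintype.ofFinite F
  rw [Nat.card_eq_fintype_card] at hq
  obtain ⟨w, -, hw⟩ := Finset.exists_mem_notMem_of_card_lt_card
    (show ({0, 1} : Finset F).card < (Finset.univ : Finset F).card by
      rw [Finset.card_univ]; exact lt_of_le_of_lt Finset.card_le_two hq)
  simp only [Finset.mem_insert, Finset.mem_singleton, not_or] at hw
  exact ⟨w, hw⟩

variable [Finite F] (hq : 3 ≤ Nat.card F)

include hq in
theorem exists_shift_invertible {M C : Matrix (Fin 2) (Fin 2) F} (hsym : Mᵀ * C = Cᵀ * M)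
    (hC : IsUnit C.det) : ∃ S : Matrix (Fin 2) (Fin 2) F, Sᵀ = S ∧ (M + S * C).det = 1 ∧ Good (M + S * C) := by
  have hN := mul_inv_transpose_eq hsym hC
  suffices h : ∃ R : Matrix (Fin 2) (Fin 2) F, Rᵀ = R ∧ (R * C).det = 1 ∧ Good (R * C) by
    obtain ⟨R, hR, h1, h2⟩ := h
    refine ⟨R - M * C⁻¹, by rw [Matrix.transpose_sub, hR, hN], ?_⟩
    have e : M + (R - M * C⁻¹) * C = R * C := by
      rw [Matrix.sub_mul, Matrix.mul_assoc M, Matrix.nonsing_inv_mul _ hC, Matrix.mul_one]; abel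
    rw [e]
    exact ⟨h1, h2⟩
  by_cases hCs : C 0 1 = C 1 0
  · refine ⟨C⁻¹, ?_, ?_, Or.inl (Matrix.nonsing_inv_mul _ hC)⟩
    · have : Cᵀ = C := by
        ext i j
        fin_cases i <;> fin_cases j <;> simp [hCs]
      rw [Matrix.transpose_nonsing_inv, this]
    · rw [Matrix.nonsing_inv_mul _ hC, Matrix.det_one]
  obtain ⟨w, hw0, hw1⟩ := exists_three hq
  have hdet : C.det ≠ 0 := hC.ne_zero
  set f := C.det⁻¹
  let R : F → F → Matrix (Fin 2) (Fin 2) F := fun s t => !![s, t; t, (f + t ^ 2) / s]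
  have hRdet : ∀ s t : F, s ≠ 0 → (R s t * C).det = 1 := fun s t hs => by
    rw [Matrix.det_mul, show (R s t).det = f by
      simp [R, Matrix.det_fin_two]; field_simp; ring]
    exact inv_mul_cancel₀ hdet
  have hRtr : ∀ s t : F, (R s t * C).trace =
      s * C 0 0 + (f + t ^ 2) / s * C 1 1 + t * (C 0 1 + C 1 0) := fun s t => by
    simp [R, Matrix.trace_fin_two, Matrix.vecMul, dotProduct, Matrix.mul_apply, Fin.sum_univ_two]; ring
  obtain ⟨s, t, hs, hst⟩ : ∃ s t : F, s ≠ 0 ∧ (R s t * C).trace ≠ 2 := by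
    by_contra h
    push Not at h
    have e0 := (hRtr 1 0).symm.trans (h 1 0 one_ne_zero)
    have e1 := (hRtr 1 1).symm.trans (h 1 1 one_ne_zero)
    have ew := (hRtr 1 w).symm.trans (h 1 w one_ne_zero)
    have es := (hRtr w 0).symm.trans (h w 0 hw0)
    simp only [div_one] at e0 e1 ew
    have h11 : C 1 1 = 0 := by
      have hz : C 1 1 * (w * (w - 1)) = 0 := by linear_combination (ew - e0) - w * (e1 - e0)
      exact (mul_eq_zero.1 hz).resolve_right (mul_ne_zero hw0 (sub_ne_zero.2 hw1))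
    rw [h11] at e0 e1 es
    have h00 : C 0 0 = 0 := by
      have hz : C 0 0 * (w - 1) = 0 := by linear_combination es - e0
      exact (mul_eq_zero.1 hz).resolve_right (sub_ne_zero.2 hw1)
    rw [h00] at e0
    have h2 : (2 : F) = 0 := by linear_combination -e0
    exact hCs (by
      rw [h00] at e1
      linear_combination e1 + (1 - C 1 0) * h2)
  refine ⟨R s t, ?_, hRdet s t hs, Or.inr ⟨hst, ?_⟩⟩
  · ext i j
    fin_cases i <;> fin_cases j <;> simp [R]
  · intro hsc
    obtain ⟨r, hr⟩ := isScal_iff.1 hsc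
    have hr0 : r ≠ 0 := by
      rintro rfl
      have := hRdet s t hs
      rw [hr] at this
      simp at this
    have e00 := congrFun (congrFun hr 0) 0
    have e01 := congrFun (congrFun hr 0) 1
    have e10 := congrFun (congrFun hr 1) 0
    have e11 := congrFun (congrFun hr 1) 1
    simp [R, Matrix.vecMul, dotProduct, Matrix.mul_apply, Fin.sum_univ_two] at e00 e01 e10 e11
    set v := (f + t ^ 2) / s with hv
    have hf : s * v - t * t = f := by rw [hv]; field_simp; ring
    refine hCs (mul_left_cancel₀ (inv_ne_zero hdet : f ≠ 0) ?_)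
    linear_combination v * e01 - t * e11 - s * e10 + t * e00 - (C 0 1 - C 1 0) * hf

theorem mulVec_vecMulVec_fin2 (s c v : Fin 2 → F) (h : c 0 * v 0 + c 1 * v 1 = 0) :
    Matrix.vecMulVec s c *ᵥ v = 0 := by
  ext i
  simp [Matrix.mulVec, dotProduct, Fin.sum_univ_two, Matrix.vecMulVec_apply]
  linear_combination s i * h

theorem good_or_exists {M : Matrix (Fin 2) (Fin 2) F} {c : Fin 2 → F} (hc : c ≠ 0)
    (hinj : M *ᵥ ![-c 1, c 0] ≠ 0) :
    ∃ s : Fin 2 → F, (M + Matrix.vecMulVec s c).det = 1 ∧ Good (M + Matrix.vecMulVec s c) := by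
  set k : Fin 2 → F := ![-c 1, c 0] with hk
  obtain ⟨K, hK⟩ : ∃ K, K = M *ᵥ k := ⟨_, rfl⟩
  rw [← hK] at hinj
  have hK0 : K 0 = -(c 1) * M 0 0 + c 0 * M 0 1 := by
    simp [hK, hk, Matrix.mulVec, dotProduct, Fin.sum_univ_two]; ring
  have hK1 : K 1 = -(c 1) * M 1 0 + c 0 * M 1 1 := by
    simp [hK, hk, Matrix.mulVec, dotProduct, Fin.sum_univ_two]; ring
  have hck : c 0 * k 0 + c 1 * k 1 = 0 := by simp [hk]; ring
  have hker : ∀ s : Fin 2 → F, (M + Matrix.vecMulVec s c) *ᵥ k = K := fun s => by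
    rw [Matrix.add_mulVec, mulVec_vecMulVec_fin2 _ _ _ hck, add_zero, hK]
  have hdet : ∀ s : Fin 2 → F, (M + Matrix.vecMulVec s c).det = M.det + (K 1 * s 0 - K 0 * s 1) := fun s => by
    simp [Matrix.det_fin_two, Matrix.vecMulVec_apply, hK0, hK1]; ring
  have htr : ∀ s : Fin 2 → F, (M + Matrix.vecMulVec s c).trace = M.trace + (c 0 * s 0 + c 1 * s 1) := fun s => by
    simp [Matrix.trace_fin_two, Matrix.vecMulVec_apply]; ring
  obtain ⟨i, hi⟩ := Function.ne_iff.1 hc
  simp only [Pi.zero_apply] at hi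
  by_cases hD : c 0 * K 0 + c 1 * K 1 = 0
  swap
  · -- prescribe determinant and trace
    set D := c 0 * K 0 + c 1 * K 1
    set α := 1 - M.det
    set β := 3 - M.trace
    refine ⟨![(c 1 * α + K 0 * β) / D, (K 1 * β - c 0 * α) / D], ?_, Or.inr ⟨?_, ?_⟩⟩
    · rw [hdet]
      simp only [Matrix.cons_val_zero, Matrix.cons_val_one]
      field_simp
      simp only [α, β, D]
      ring
    · rw [htr]
      simp only [Matrix.cons_val_zero, Matrix.cons_val_one]
      intro h
      field_simp at h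
      have h' : D * (1 : F) = 0 := by
        simp only [α, β, D] at h ⊢
        linear_combination h
      exact hD (by rwa [mul_one] at h')
    · intro hsc
      obtain ⟨r, hr⟩ := isScal_iff.1 hsc
      have := hker ![(c 1 * α + K 0 * β) / D, (K 1 * β - c 0 * α) / D]
      rw [hr, Matrix.smul_mulVec, Matrix.one_mulVec] at this
      refine hD ?_
      show c 0 * K 0 + c 1 * K 1 = 0
      rw [← this]
      simp only [Pi.smul_apply, smul_eq_mul]
      linear_combination r * hck
  -- `k` is an eigenvector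
  obtain ⟨w, hw⟩ : ∃ w, K = w • k := by
    by_cases h0 : c 0 = 0
    · have h1 : c 1 ≠ 0 := by fin_cases i <;> simp_all
      refine ⟨-(K 0) / c 1, ?_⟩
      rw [h0, zero_mul, zero_add] at hD
      ext j
      fin_cases j
      · simp [hk]; field_simp
      · simp [hk, h0, (mul_eq_zero.1 hD).resolve_left h1]
    · refine ⟨K 1 / c 0, ?_⟩
      ext j
      fin_cases j
      · simp [hk]; field_simp; linear_combination hD
      · simp [hk]; field_simp
  have hw0 : w ≠ 0 := fun h => hinj (by rw [hw, h, zero_smul])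
  by_cases hw1 : w = 1
  · -- reach the identity
    refine ⟨fun j => (((1 : Matrix (Fin 2) (Fin 2) F) - M) j i) / c i, ?_⟩
    suffices h : M + Matrix.vecMulVec (fun j => (((1 : Matrix (Fin 2) (Fin 2) F) - M) j i) / c i) c = 1 by
      rw [h]; exact ⟨Matrix.det_one, Or.inl rfl⟩
    have e0 : K 0 = -(c 1) := by rw [hw, hw1]; simp [hk]
    have e1 : K 1 = c 0 := by rw [hw, hw1]; simp [hk]
    rw [hK0] at e0
    rw [hK1] at e1
    obtain rfl | rfl : i = 0 ∨ i = 1 := by fin_cases i <;> simp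
    all_goals ext a b
    all_goals fin_cases a <;> fin_cases b <;>
      simp [Matrix.vecMulVec_apply] <;> field_simp <;>
      first
        | ring1
        | linear_combination e0
        | linear_combination -e0
        | linear_combination e1
        | linear_combination -e1
  have htrace : ∀ s : Fin 2 → F, (M + Matrix.vecMulVec s c).det = 1 → (M + Matrix.vecMulVec s c).trace ≠ 2 := by
    intro s hs ht
    set A := M + Matrix.vecMulVec s c
    have hAk : (A - w • (1 : Matrix (Fin 2) (Fin 2) F)) *ᵥ k = 0 := by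
      rw [Matrix.sub_mulVec, hker, Matrix.smul_mulVec, Matrix.one_mulVec, hw, sub_self]
    have hk0 : k ≠ 0 := fun h => hinj (by rw [hK, h, Matrix.mulVec_zero])
    have h0 : (A - w • (1 : Matrix (Fin 2) (Fin 2) F)).det = 0 :=
      Matrix.exists_mulVec_eq_zero_iff.1 ⟨k, hk0, hAk⟩
    rw [Matrix.det_fin_two] at hs h0
    rw [Matrix.trace_fin_two] at ht
    simp at h0
    exact hw1 (sub_eq_zero.1 (pow_eq_zero_iff two_ne_zero |>.1
      (show (w - 1) ^ 2 = 0 by linear_combination h0 - hs + w * ht)))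
  obtain ⟨s, hs⟩ : ∃ s : Fin 2 → F, (M + Matrix.vecMulVec s c).det = 1 := by
    have hKne : K 0 ≠ 0 ∨ K 1 ≠ 0 := by
      by_contra h
      push Not at h
      exact hinj (by ext j; fin_cases j <;> simp [h.1, h.2])
    rcases hKne with h | h
    · refine ⟨![0, -(1 - M.det) / K 0], ?_⟩
      rw [hdet]; simp; field_simp; ring
    · refine ⟨![(1 - M.det) / K 1, 0], ?_⟩
      rw [hdet]; simp; field_simp; ring
  by_cases hsc : IsScal (M + Matrix.vecMulVec s c)
  · set s' : Fin 2 → F := s + k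
    have hs' : (M + Matrix.vecMulVec s' c).det = 1 := by
      rw [hdet] at hs ⊢
      rw [hw]
      rw [hw] at hs
      simp only [s', Pi.add_apply, Pi.smul_apply, smul_eq_mul] at hs ⊢
      linear_combination hs
    refine ⟨s', hs', Or.inr ⟨htrace s' hs', fun hsc' => ?_⟩⟩
    obtain ⟨a1, a2, a3⟩ := hsc
    obtain ⟨b1, b2, b3⟩ := hsc'
    simp only [s', hk, Matrix.add_apply, Matrix.vecMulVec_apply, Pi.add_apply, Matrix.cons_val_zero,
      Matrix.cons_val_one] at a1 a2 b1 b2
    have z1 : c 1 * c 1 = 0 := by linear_combination a1 - b1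
    have z2 : c 0 * c 0 = 0 := by linear_combination b2 - a2
    exact hi (by fin_cases i <;> simp_all)
  · exact ⟨s, hs, Or.inr ⟨htrace s hs, hsc⟩⟩

theorem exists_sym_mulVec {u : Fin 2 → F} (hu : u ≠ 0) (s : Fin 2 → F) :
    ∃ S : Matrix (Fin 2) (Fin 2) F, Sᵀ = S ∧ S *ᵥ u = s := by
  by_cases h0 : u 0 = 0
  · have h1 : u 1 ≠ 0 := fun h1 => hu (by ext j; fin_cases j <;> assumption)
    refine ⟨!![0, s 0 / u 1; s 0 / u 1, s 1 / u 1], ?_, ?_⟩
    · ext i j; fin_cases i <;> fin_cases j <;> simp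
    · ext j; fin_cases j <;> simp [Matrix.mulVec, dotProduct, Fin.sum_univ_two, h0] <;> field_simp
  · refine ⟨!![(s 0 - s 1 / u 0 * u 1) / u 0, s 1 / u 0; s 1 / u 0, 0], ?_, ?_⟩
    · ext i j; fin_cases i <;> fin_cases j <;> simp
    · ext j; fin_cases j <;> simp [Matrix.mulVec, dotProduct, Fin.sum_univ_two] <;> field_simp <;> ring

theorem exists_vecMulVec {C : Matrix (Fin 2) (Fin 2) F} (hC : C ≠ 0) (hd : C.det = 0) :
    ∃ u c : Fin 2 → F, u ≠ 0 ∧ c ≠ 0 ∧ C = Matrix.vecMulVec u c := by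
  rw [Matrix.det_fin_two] at hd
  by_cases h0 : C 0 = 0
  · refine ⟨![0, 1], C 1, fun h => one_ne_zero (congrFun h 1), fun h => hC ?_, ?_⟩
    · ext i j; fin_cases i
      · exact congrFun h0 j
      · exact congrFun h j
    · ext i j
      fin_cases i
      · simpa [Matrix.vecMulVec_apply] using congrFun h0 j
      · simp [Matrix.vecMulVec_apply]
  · obtain ⟨i, hi⟩ := Function.ne_iff.1 h0
    simp only [Pi.zero_apply] at hi
    refine ⟨![1, C 1 i / C 0 i], C 0, fun h => one_ne_zero (congrFun h 0), h0, ?_⟩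
    ext a b
    fin_cases a
    · simp [Matrix.vecMulVec_apply]
    · simp [Matrix.vecMulVec_apply]
      field_simp
      obtain rfl | rfl : i = 0 ∨ i = 1 := by fin_cases i <;> simp
      all_goals fin_cases b <;> simp <;>
        first
          | ring1
          | linear_combination hd
          | linear_combination -hd

include hq in
/-- The key lemma: the block `M` can be moved to a good matrix of determinant one. -/
theorem exists_shift {M C : Matrix (Fin 2) (Fin 2) F} (hC : C ≠ 0) (hsym : Mᵀ * C = Cᵀ * M)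
    (hinj : ∀ v : Fin 2 → F, M *ᵥ v = 0 → C *ᵥ v = 0 → v = 0) :
    ∃ S : Matrix (Fin 2) (Fin 2) F, Sᵀ = S ∧ (M + S * C).det = 1 ∧ Good (M + S * C) := by
  by_cases hd : C.det = 0
  swap
  · exact exists_shift_invertible hq hsym (isUnit_iff_ne_zero.2 hd)
  obtain ⟨u, c, hu, hc, rfl⟩ := exists_vecMulVec hC hd
  obtain ⟨s, hs⟩ := good_or_exists (M := M) hc (fun h => hc (by
    have hz := hinj _ h (mulVec_vecMulVec_fin2 u c _ (by simp; ring))
    have z0 := congrFun hz 0
    have z1 := congrFun hz 1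
    simp at z0 z1
    ext j; fin_cases j <;> assumption))
  obtain ⟨S, hS, rfl⟩ := exists_sym_mulVec hu s
  exact ⟨S, hS, by rwa [Matrix.mul_vecMulVec]⟩

end CfsgLib.PSpFourCover
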