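import Cfsg.Agent.PSpFourCover.BlockShift

/-!
# Every non-central element of `Sp₄` is a product of two conjugates of an elliptic Levi element
-/

set_option autoImplicit false

namespace CfsgLib.PSpFourCover

open Matrix

variable {F : Type*} [Field F]

local notation "Sp4F" => Matrix.symplecticGroup (Fin 2) F
local notation "Mat2" => Matrix (Fin 2) (Fin 2) F
local notation "Mat4" => Matrix (Fin 2 ⊕ Fin 2) (Fin 2 ⊕ Fin 2) F

/-- Symmetric `2 × 2` matrices. -/
def symm2 (F : Type*) [Field F] : AddSubgroup (Matrix (Fin 2) (Fin 2) F) where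
  carrier := {S | Sᵀ = S}
  add_mem' {a b} ha hb := by
    show (a + b)ᵀ = a + b
    rw [Matrix.transpose_add, show aᵀ = a from ha, show bᵀ = b from hb]
  zero_mem' := Matrix.transpose_zero
  neg_mem' {a} ha := by
    show (-a)ᵀ = -a
    rw [Matrix.transpose_neg, show aᵀ = a from ha]

theorem congr_mem (K : Mat2) {S : Mat2} (hS : S ∈ symm2 F) : K * S * Kᵀ ∈ symm2 F := by
  show (K * S * Kᵀ)ᵀ = K * S * Kᵀ
  rw [Matrix.transpose_mul, Matrix.transpose_mul, Matrix.transpose_transpose, show Sᵀ = S from hS,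
    Matrix.mul_assoc]

/-- `[1 S; 0 1]`. -/
def upS (S : symm2 F) : Sp4F :=
  ⟨fromBlocks 1 S.1 0 1, by
    rw [SymplecticGroup.fromBlocks_mem_iff]
    simp [show S.1ᵀ = S.1 from S.2]⟩

/-- `[1 0; S 1]`. -/
def loS (S : symm2 F) : Sp4F :=
  ⟨fromBlocks 1 0 S.1 1, by
    rw [SymplecticGroup.fromBlocks_mem_iff]
    simp [show S.1ᵀ = S.1 from S.2]⟩

/-- `diag(K, K⁻ᵀ)`. -/
def dg (K : Mat2ˣ) : Sp4F :=
  ⟨fromBlocks (K : Mat2) 0 0 ((K⁻¹ : Mat2ˣ) : Mat2)ᵀ, by
    rw [SymplecticGroup.fromBlocks_mem_iff]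
    refine ⟨by simp, by simp, ?_⟩
    rw [← Matrix.transpose_mul, Units.inv_mul]
    simp⟩

theorem upS_add (S T : symm2 F) : upS (S + T) = upS S * upS T :=
  Subtype.ext (by simp [upS, fromBlocks_multiply, add_comm])

theorem upS_zero : upS (0 : symm2 F) = 1 := Subtype.ext (by simp [upS])

theorem upS_neg (S : symm2 F) : upS (-S) = (upS S)⁻¹ :=
  eq_inv_of_mul_eq_one_right (by rw [← upS_add, add_neg_cancel, upS_zero])

theorem loS_add (S T : symm2 F) : loS (S + T) = loS S * loS T :=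
  Subtype.ext (by simp [loS, fromBlocks_multiply])

theorem dg_mul (K L : Mat2ˣ) : dg (K * L) = dg K * dg L :=
  Subtype.ext (by simp [dg, fromBlocks_multiply, Matrix.transpose_mul])

theorem dg_one : dg (1 : Mat2ˣ) = 1 := Subtype.ext (by simp [dg])

theorem dg_inv (K : Mat2ˣ) : dg K⁻¹ = (dg K)⁻¹ :=
  eq_inv_of_mul_eq_one_right (by rw [← dg_mul, mul_inv_cancel, dg_one])

theorem dg_pow (K : Mat2ˣ) (n : ℕ) : dg (K ^ n) = dg K ^ n := by
  induction n with
  | zero => simp [dg_one]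
  | succ n ih => rw [pow_succ, pow_succ, dg_mul, ih]

theorem dg_mul_upS (K : Mat2ˣ) (S : symm2 F) :
    dg K * upS S = upS ⟨(K : Mat2) * S.1 * (K : Mat2)ᵀ, congr_mem _ S.2⟩ * dg K := by
  refine Subtype.ext ?_
  simp only [dg, upS, Submonoid.coe_mul, fromBlocks_multiply]
  congr 1
  · simp
  · rw [Matrix.mul_assoc, ← Matrix.transpose_mul, Units.inv_mul]
    simp
  all_goals simp

/-- The dual unit `K⁻ᵀ`. -/
def dual (K : Mat2ˣ) : Mat2ˣ where
  val := ((K⁻¹ : Mat2ˣ) : Mat2)ᵀ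
  inv := (K : Mat2)ᵀ
  val_inv := by rw [← Matrix.transpose_mul, Units.mul_inv, Matrix.transpose_one]
  inv_val := by rw [← Matrix.transpose_mul, Units.inv_mul, Matrix.transpose_one]

/-- The element `J`. -/
abbrev jEl : Sp4F := SymplecticGroup.symJ (Fin 2) F

theorem j_conj_dg (K : Mat2ˣ) : (jEl : Sp4F) * dg K * jEl⁻¹ = dg (dual K) := by
  rw [mul_inv_eq_iff_eq_mul]
  exact Subtype.ext (by simp [dg, dual, Matrix.J, fromBlocks_multiply])

theorem j_conj_upS (S : symm2 F) : (jEl : Sp4F) * upS S * jEl⁻¹ = loS (-S) := by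
  rw [mul_inv_eq_iff_eq_mul]
  exact Subtype.ext (by simp [upS, loS, Matrix.J, fromBlocks_multiply])

variable {a d : F}

/-- The unit attached to the companion matrix. -/
noncomputable def Params.unit (hp : Params a d) : Mat2ˣ :=
  Matrix.GeneralLinearGroup.mkOfDetNeZero (comp2 a d) (by rw [det_comp2]; exact hp.d_ne)

theorem Params.coe_unit (hp : Params a d) : (hp.unit : Mat2) = comp2 a d := rfl

theorem Params.kernel (hp : Params a d) {W : Mat2} (hW : Wᵀ = W)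
    (h : comp2 a d * W * (comp2 a d)ᵀ = W) : W = 0 := by
  obtain ⟨p, r, s, rfl⟩ : ∃ p r s, W = !![p, r; r, s] :=
    ⟨W 0 0, W 0 1, W 1 1, by
      ext i j
      have := congrFun (congrFun hW 0) 1
      simp at this
      fin_cases i <;> fin_cases j <;> simp [this]⟩
  have e00 := congrFun (congrFun h 0) 0
  have e01 := congrFun (congrFun h 0) 1
  have e11 := congrFun (congrFun h 1) 1
  simp [comp2, Matrix.mul_apply, Fin.sum_univ_two, Matrix.vecMul, dotProduct] at e00 e01 e11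
  have hr : r * (1 + d) = -(a * d * s) := by linear_combination -e01
  have hz : s * ((1 - d) * ((1 + d) ^ 2 - a ^ 2)) = 0 := by
    linear_combination -(1 + d) * e11 + (-(1 + d)) * e00 + (2 * a) * hr
  have hne : (1 + d) ^ 2 - a ^ 2 ≠ 0 := by
    rw [sq_sub_sq]
    exact mul_ne_zero (fun e => hp.irred (-1) (by linear_combination e))
      (fun e => hp.irred 1 (by linear_combination e))
  have hs : s = 0 := (mul_eq_zero.1 hz).resolve_right
    (mul_ne_zero (sub_ne_zero.2 hp.d_ne_one.symm) hne)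
  subst hs
  have hp0 : p = 0 := by linear_combination -e00
  subst hp0
  have hr0 : r = 0 := by
    rcases mul_eq_zero.1 (show r * (1 + d) = 0 by linear_combination hr) with h' | h'
    · exact h'
    · have h2 : (2 * a) * r = 0 := by linear_combination e11
      refine (mul_eq_zero.1 h2).resolve_left (mul_ne_zero ?_ hp.a_ne)
      intro e
      exact hp.d_ne_one (by linear_combination h' - e)
  subst hr0
  ext i j
  fin_cases i <;> fin_cases j <;> simp

variable [Finite F]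

theorem Params.surjective (hp : Params a d) (Z : symm2 F) :
    ∃ W : symm2 F, W.1 - comp2 a d * W.1 * (comp2 a d)ᵀ = Z.1 := by
  let φ : symm2 F →+ symm2 F :=
    { toFun := fun W => ⟨W.1 - comp2 a d * W.1 * (comp2 a d)ᵀ, sub_mem W.2 (congr_mem _ W.2)⟩
      map_zero' := Subtype.ext (by simp)
      map_add' := fun V W => Subtype.ext (by
        show V.1 + W.1 - _ * (V.1 + W.1) * _ = _
        simp only [Matrix.mul_add, Matrix.add_mul, AddSubgroup.coe_add]
        abel) }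
  have hinj : Function.Injective φ := by
    rw [injective_iff_map_eq_zero]
    intro W hW
    exact Subtype.ext (hp.kernel W.2 (sub_eq_zero.1 (congrArg Subtype.val hW)).symm)
  obtain ⟨W, hW⟩ := Finite.surjective_of_injective hinj Z
  exact ⟨W, congrArg Subtype.val hW⟩

theorem Params.conj_upS_mul (hp : Params a d) {Y : Mat2ˣ} (ht : (Y : Mat2).trace = a) (hd : (Y : Mat2).det = d)
    (Z : symm2 F) : IsConj (dg hp.unit) (upS Z * dg Y) := by
  obtain ⟨K, hK⟩ := hp.conj_comp ht hd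
  obtain rfl : Y = K * hp.unit * K⁻¹ := Units.ext hK
  obtain ⟨W, hW⟩ := hp.surjective
    ⟨((K⁻¹ : Mat2ˣ) : Mat2) * Z.1 * ((K⁻¹ : Mat2ˣ) : Mat2)ᵀ, congr_mem _ Z.2⟩
  refine isConj_iff.2 ⟨dg K * upS W, ?_⟩
  have h1 : upS W * dg hp.unit * (upS W)⁻¹ =
      upS ⟨((K⁻¹ : Mat2ˣ) : Mat2) * Z.1 * ((K⁻¹ : Mat2ˣ) : Mat2)ᵀ, congr_mem _ Z.2⟩ * dg hp.unit := by
    rw [← upS_neg, mul_assoc, dg_mul_upS, ← mul_assoc, ← upS_add]
    congr 2
    refine Subtype.ext ?_
    rw [AddSubgroup.coe_add]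
    simp only [AddSubgroup.coe_neg, hp.coe_unit, Matrix.mul_neg, Matrix.neg_mul, ← sub_eq_add_neg]
    exact hW
  rw [_root_.mul_inv_rev, ← dg_inv,
    show dg K * upS W * dg hp.unit * ((upS W)⁻¹ * dg K⁻¹) = dg K * (upS W * dg hp.unit * (upS W)⁻¹) * dg K⁻¹ by group,
    h1, ← mul_assoc, dg_mul_upS, mul_assoc, mul_assoc, ← mul_assoc (dg K), ← dg_mul, ← dg_mul]
  congr 2
  refine Subtype.ext ?_
  show (K : Mat2) * (((K⁻¹ : Mat2ˣ) : Mat2) * Z.1 * ((K⁻¹ : Mat2ˣ) : Mat2)ᵀ) * (K : Mat2)ᵀ = Z.1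
  rw [← Matrix.mul_assoc, ← Matrix.mul_assoc, Units.mul_inv, Matrix.one_mul, Matrix.mul_assoc,
    ← Matrix.transpose_mul, Units.mul_inv, Matrix.transpose_one, Matrix.mul_one]

theorem Params.conj_mul_upS (hp : Params a d) {Y : Mat2ˣ} (ht : (Y : Mat2).trace = a) (hd : (Y : Mat2).det = d)
    (Z : symm2 F) : IsConj (dg hp.unit) (dg Y * upS Z) := by
  rw [dg_mul_upS]
  exact hp.conj_upS_mul ht hd _

theorem Params.conj_loS_mul (hp : Params a d) {Y : Mat2ˣ} (ht : (Y : Mat2).trace = a) (hd : (Y : Mat2).det = d)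
    (X : symm2 F) : IsConj (dg hp.unit) (loS X * dg Y⁻¹) := by
  have h := hp.conj_upS_mul (Y := dual Y⁻¹) (by simpa [dual, Matrix.trace_transpose] using ht)
    (by simpa [dual, Matrix.det_transpose] using hd) (-X)
  refine h.trans (isConj_iff.2 ⟨jEl, ?_⟩)
  rw [show (jEl : Sp4F) * (upS (-X) * dg (dual Y⁻¹)) * jEl⁻¹ =
      (jEl * upS (-X) * jEl⁻¹) * (jEl * dg (dual Y⁻¹) * jEl⁻¹) by group, j_conj_upS, j_conj_dg, neg_neg]
  rw [show dual (dual Y⁻¹) = Y⁻¹ from Units.ext (by simp [dual])]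

omit [Finite F] in
theorem exists_conj_lower_ne {g : Sp4F} (hg : g ∉ Subgroup.center Sp4F) :
    ∃ h : Sp4F, IsConj g h ∧ (h : Mat4).toBlocks₂₁ ≠ 0 := by
  by_contra hcon
  push Not at hcon
  have key : ∀ k : Sp4F, ((k * g * k⁻¹ : Sp4F) : Mat4).toBlocks₂₁ = 0 := fun k =>
    hcon _ (isConj_iff.2 ⟨k, rfl⟩)
  obtain ⟨A, B, C, D, hgb⟩ : ∃ A B C D, (g : Mat4) = fromBlocks A B C D :=
    ⟨_, _, _, _, (fromBlocks_toBlocks _).symm⟩
  have hC : C = 0 := by simpa [hgb] using key 1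
  subst hC
  have hB : B = 0 := by
    have h := key jEl
    have e : ((jEl * g * jEl⁻¹ : Sp4F) : Mat4) = fromBlocks D 0 (-B) A := by
      have he : jEl * g * jEl⁻¹ = (⟨fromBlocks D 0 (-B) A, by
          have h' := (SymplecticGroup.symJ (Fin 2) F * g * (SymplecticGroup.symJ (Fin 2) F)⁻¹).2
          convert h' using 1
          rw [Submonoid.coe_mul, Submonoid.coe_mul, SymplecticGroup.coe_inv]
          simp [hgb, Matrix.J, fromBlocks_multiply, fromBlocks_transpose, fromBlocks_neg]⟩ : Sp4F) := by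
        rw [mul_inv_eq_iff_eq_mul]
        exact Subtype.ext (by simp [hgb, Matrix.J, fromBlocks_multiply])
      rw [he]
    rw [e] at h
    simpa using h
  subst hB
  have hX : ∀ S : symm2 F, S.1 * A - D * S.1 = 0 := by
    intro S
    have h := key (loS S)
    have hinv : (loS S)⁻¹ = loS (-S) := (eq_inv_of_mul_eq_one_right (by
      rw [← loS_add, add_neg_cancel]; exact Subtype.ext (by simp [loS]))).symm
    rw [hinv, Submonoid.coe_mul, Submonoid.coe_mul] at h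
    simp only [loS, hgb, fromBlocks_multiply, toBlocks_fromBlocks₂₁, AddSubgroup.coe_neg] at h
    simpa [sub_eq_add_neg] using h
  have hAD : A = D := by
    have := hX ⟨1, Matrix.transpose_one⟩
    simpa [sub_eq_zero] using this
  subst hAD
  have h1 := hX ⟨!![1, 0; 0, 0], by show _ = _; ext i j; fin_cases i <;> fin_cases j <;> simp⟩
  have h2 := hX ⟨!![0, 1; 1, 0], by show _ = _; ext i j; fin_cases i <;> fin_cases j <;> simp⟩
  have a01 := congrFun (congrFun h1 0) 1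
  have a10 := congrFun (congrFun h1 1) 0
  have a00 := congrFun (congrFun h2 0) 1
  simp [Matrix.mul_apply, Fin.sum_univ_two, Matrix.vecMul, dotProduct] at a01 a10 a00
  have hA : A = A 0 0 • (1 : Mat2) := by
    ext i j
    fin_cases i <;> fin_cases j <;> simp [a01, a10]
    linear_combination a00
  refine hg (Subgroup.mem_center_iff.2 fun h => Subtype.ext ?_)
  obtain ⟨r, rfl⟩ : ∃ r : F, A = r • (1 : Mat2) := ⟨_, hA⟩
  rw [Submonoid.coe_mul, Submonoid.coe_mul, hgb, show fromBlocks (r • (1 : Mat2)) 0 0 (r • 1) =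
    r • (1 : Mat4) by rw [← fromBlocks_one, fromBlocks_smul, smul_zero],
    Matrix.mul_smul, Matrix.smul_mul, Matrix.mul_one, Matrix.one_mul]

theorem exists_normal_form (hq : 3 ≤ Nat.card F) {g : Sp4F} (hg : g ∉ Subgroup.center Sp4F) :
    ∃ (M : Mat2ˣ) (X Z : symm2 F), (M : Mat2).det = 1 ∧ Good (M : Mat2) ∧ IsConj g (loS X * dg M * upS Z) := by
  obtain ⟨h, hgh, hC⟩ := exists_conj_lower_ne hg
  obtain ⟨A, B, C, D, hhb⟩ : ∃ A B C D, (h : Mat4) = fromBlocks A B C D :=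
    ⟨_, _, _, _, (fromBlocks_toBlocks _).symm⟩
  rw [hhb, toBlocks_fromBlocks₂₁] at hC
  obtain ⟨hs1, -, -⟩ := SymplecticGroup.fromBlocks_mem_iff.1 (hhb ▸ h.2)
  have hinj : ∀ v : Fin 2 → F, A *ᵥ v = 0 → C *ᵥ v = 0 → v = 0 := by
    intro v hA hC'
    have h0 : (h : Mat4) *ᵥ Sum.elim v 0 = (h : Mat4) *ᵥ 0 := by
      rw [hhb, fromBlocks_mulVec, Matrix.mulVec_zero]
      ext (i | i) <;> simp [hA, hC']
    have h1 := Matrix.mulVec_injective_iff_isUnit.2
      ((Matrix.isUnit_iff_isUnit_det _).2 (SymplecticGroup.symplectic_det h.2)) h0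
    ext i
    exact congrFun h1 (Sum.inl i)
  obtain ⟨S, hS, hdet, hgood⟩ := exists_shift hq hC hs1 hinj
  set h' := upS ⟨S, hS⟩ * h * (upS ⟨S, hS⟩)⁻¹ with hh'
  obtain ⟨M, B', hM, hb'⟩ : ∃ (M : Mat2ˣ) (B' : Mat2) , (M : Mat2) = A + S * C ∧
      (h' : Mat4) = fromBlocks (A + S * C) B' C (-(C * S) + D) := by
    refine ⟨Matrix.GeneralLinearGroup.mkOfDetNeZero (A + S * C) (by rw [hdet]; exact one_ne_zero),
      -((A + S * C) * S) + (B + S * D), rfl, ?_⟩
    rw [hh', ← upS_neg, Submonoid.coe_mul, Submonoid.coe_mul]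
    simp [upS, hhb, fromBlocks_multiply]
  obtain ⟨ht1, -, -⟩ := SymplecticGroup.fromBlocks_mem_iff.1 (hb' ▸ h'.2)
  rw [← hM] at ht1 hb' hdet hgood
  have hXs : C * ((M⁻¹ : Mat2ˣ) : Mat2) ∈ symm2 F := by
    show (C * ((M⁻¹ : Mat2ˣ) : Mat2))ᵀ = _
    rw [Matrix.coe_units_inv]
    exact mul_inv_transpose_eq ht1.symm (by rw [hdet]; exact isUnit_one)
  set X : symm2 F := ⟨_, hXs⟩
  obtain ⟨B'', D'', hk⟩ : ∃ B'' D'', ((dg M⁻¹ * loS (-X) * h' : Sp4F) : Mat4) = fromBlocks 1 B'' 0 D'' := by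
    refine ⟨((M⁻¹ : Mat2ˣ) : Mat2) * B',
      (M : Mat2)ᵀ * (-(C * ((M⁻¹ : Mat2ˣ) : Mat2))) * B' + (M : Mat2)ᵀ * (-(C * S) + D), ?_⟩
    · rw [Submonoid.coe_mul, Submonoid.coe_mul, hb']
      simp only [dg, loS, X, fromBlocks_multiply, inv_inv, AddSubgroup.coe_neg]
      congr 1
      · simp
      · simp
      · simp [Matrix.mul_assoc]
      · simp
  obtain ⟨-, k2, k3⟩ := SymplecticGroup.fromBlocks_mem_iff.1 (hk ▸ (dg M⁻¹ * loS (-X) * h').2)
  simp at k3
  subst k3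
  have hZ : B''ᵀ = B'' := by simpa using k2
  refine ⟨M, X, ⟨B'', hZ⟩, hdet, hgood, hgh.trans ((isConj_iff.2 ⟨_, hh'.symm⟩).trans ?_)⟩
  rw [show loS X * dg M * upS ⟨B'', hZ⟩ = h' by
    rw [show upS ⟨B'', hZ⟩ = dg M⁻¹ * loS (-X) * h' from Subtype.ext hk.symm, dg_inv,
      show loS X * dg M * ((dg M)⁻¹ * loS (-X) * h') = loS X * loS (-X) * h' by group,
      ← loS_add, add_neg_cancel]
    exact Subtype.ext (by simp [loS])]
  exact IsConj.refl _

variable [Fintype F]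

theorem Params.cover (hp : Params a d) (hq : 3 ≤ Nat.card F) {g : Sp4F} (hg : g ∉ Subgroup.center Sp4F) :
    ∃ u v : Sp4F, g = (u * dg hp.unit * u⁻¹) * (v * dg hp.unit * v⁻¹) := by
  obtain ⟨M, X, Z, hdet, hgood, hc⟩ := exists_normal_form hq hg
  obtain ⟨Y, h1, h2, h3, h4⟩ : ∃ Y : Mat2, Y.trace = a ∧ Y.det = d ∧
      (Y * (M : Mat2)).trace = a ∧ (Y * (M : Mat2)).det = d := by
    rcases hgood with h | ⟨hT, hs⟩
    · exact ⟨comp2 a d, trace_comp2 a d, det_comp2 a d, by rw [h, mul_one, trace_comp2],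
        by rw [h, mul_one, det_comp2]⟩
    · exact exists_factor hp hdet hs hT
  set Yu : Mat2ˣ := Matrix.GeneralLinearGroup.mkOfDetNeZero Y (by rw [h2]; exact hp.d_ne)
  have e : loS X * dg M * upS Z = (loS X * dg Yu⁻¹) * (dg (Yu * M) * upS Z) := by
    rw [dg_mul, dg_inv]; group
  obtain ⟨u, hu⟩ := isConj_iff.1 (hp.conj_loS_mul (Y := Yu) h1 h2 X)
  obtain ⟨v, hv⟩ := isConj_iff.1 (hp.conj_mul_upS (Y := Yu * M) h3 h4 Z)
  obtain ⟨k, hk⟩ := isConj_iff.1 hc
  refine ⟨k⁻¹ * u, k⁻¹ * v, ?_⟩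
  calc g = k⁻¹ * (k * g * k⁻¹) * k := by group
    _ = _ := by rw [hk, e, ← hu, ← hv]; group

omit [Finite F] in
theorem Params.dg_pow (hp : Params a d) : dg hp.unit ^ (Fintype.card F ^ 2 - 1) = 1 := by
  rw [← CfsgLib.PSpFourCover.dg_pow,
    show hp.unit ^ (Fintype.card F ^ 2 - 1) = 1 from Units.ext (by
      rw [Units.val_pow_eq_pow_val, hp.coe_unit, comp2_pow hp, Units.val_one]), dg_one]

end CfsgLib.PSpFourCover
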