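import Mathlib

/-!
# `2 × 2` matrices as quotients of two members of an irreducible class
-/

set_option autoImplicit false

namespace CfsgLib.PSpFourCover

open Matrix

variable {F : Type*} [Field F]

/-- `M` is a scalar matrix. -/
def IsScal (M : Matrix (Fin 2) (Fin 2) F) : Prop := M 0 1 = 0 ∧ M 1 0 = 0 ∧ M 0 0 = M 1 1

theorem isScal_iff {M : Matrix (Fin 2) (Fin 2) F} : IsScal M ↔ ∃ r : F, M = r • 1 := by
  constructor
  · rintro ⟨h1, h2, h3⟩
    refine ⟨M 0 0, ?_⟩
    ext i j
    fin_cases i <;> fin_cases j <;> simp [h1, h2, h3]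
  · rintro ⟨r, rfl⟩
    simp [IsScal]

/-- The companion matrix of `X² - a X + d`. -/
def comp2 (a d : F) : Matrix (Fin 2) (Fin 2) F := !![0, -d; 1, a]

theorem exists_conj_comp {M : Matrix (Fin 2) (Fin 2) F} (hM : ¬ IsScal M) :
    ∃ K : (Matrix (Fin 2) (Fin 2) F)ˣ, M * K = K * comp2 (M.trace) M.det := by
  obtain ⟨v, hv⟩ : ∃ v : Fin 2 → F, v 0 * (M *ᵥ v) 1 - v 1 * (M *ᵥ v) 0 ≠ 0 := by
    by_contra h
    push Not at h
    have h1 := h ![1, 0]
    have h2 := h ![0, 1]
    have h3 := h ![1, 1]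
    simp [Matrix.mulVec, dotProduct, Fin.sum_univ_two] at h1 h2 h3
    exact hM ⟨by simpa using h2, h1, by linear_combination h1 - h2 - h3⟩
  let K : Matrix (Fin 2) (Fin 2) F := !![v 0, (M *ᵥ v) 0; v 1, (M *ᵥ v) 1]
  have hK : IsUnit K := by
    rw [Matrix.isUnit_iff_isUnit_det, isUnit_iff_ne_zero, Matrix.det_fin_two]
    intro h
    apply hv
    simp [K] at h
    simp [Matrix.mulVec, dotProduct, Fin.sum_univ_two] at h ⊢
    linear_combination h
  refine ⟨hK.unit, ?_⟩
  show M * K = K * _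
  ext i j
  fin_cases i <;> fin_cases j <;>
    simp [K, comp2, Matrix.mul_apply, Matrix.mulVec, dotProduct, Fin.sum_univ_two, Matrix.trace_fin_two,
      Matrix.det_fin_two] <;> ring

theorem exists_conj_of_eq {M N : Matrix (Fin 2) (Fin 2) F} (hM : ¬ IsScal M) (hN : ¬ IsScal N)
    (ht : M.trace = N.trace) (hd : M.det = N.det) :
    ∃ K : (Matrix (Fin 2) (Fin 2) F)ˣ, M = (K : Matrix (Fin 2) (Fin 2) F) * N * ((K⁻¹ : _) : Matrix (Fin 2) (Fin 2) F) := by
  obtain ⟨P, hP⟩ := exists_conj_comp hM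
  obtain ⟨Q, hQ⟩ := exists_conj_comp hN
  rw [ht, hd] at hP
  have hc : comp2 N.trace N.det = ((Q⁻¹ : _) : Matrix (Fin 2) (Fin 2) F) * (N * Q) := by
    rw [hQ, ← mul_assoc, Units.inv_mul, one_mul]
  refine ⟨P * Q⁻¹, ?_⟩
  rw [_root_.mul_inv_rev, inv_inv, Units.val_mul, Units.val_mul]
  calc M = M * P * ((P⁻¹ : _) : Matrix (Fin 2) (Fin 2) F) := by rw [mul_assoc, Units.mul_inv, mul_one]
    _ = _ := by rw [hP, hc]; simp only [mul_assoc]

/-- Parameters of an elliptic element `A` with `det A ≠ 1`. -/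
structure Params (a d : F) : Prop where
  a_ne : a ≠ 0
  d_ne_one : d ≠ 1
  irred : ∀ x : F, x ^ 2 - a * x + d ≠ 0

variable {a d : F}

theorem Params.d_ne (h : Params a d) : d ≠ 0 := fun hd => h.irred 0 (by simp [hd])

theorem Params.not_isScal (h : Params a d) {Y : Matrix (Fin 2) (Fin 2) F} (ht : Y.trace = a) (hd : Y.det = d) :
    ¬ IsScal Y := by
  rintro ⟨h1, h2, h3⟩
  rw [Matrix.trace_fin_two] at ht
  rw [Matrix.det_fin_two, h1, h2] at hd
  refine h.irred (Y 0 0) ?_
  rw [← ht, ← hd, ← h3]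
  ring

theorem trace_comp2 (a d : F) : (comp2 a d).trace = a := by simp [comp2, Matrix.trace_fin_two]

theorem det_comp2 (a d : F) : (comp2 a d).det = d := by simp [comp2, Matrix.det_fin_two]

theorem Params.conj_comp (h : Params a d) {Y : Matrix (Fin 2) (Fin 2) F} (ht : Y.trace = a) (hd : Y.det = d) :
    ∃ K : (Matrix (Fin 2) (Fin 2) F)ˣ,
      Y = (K : Matrix (Fin 2) (Fin 2) F) * comp2 a d * ((K⁻¹ : _) : Matrix (Fin 2) (Fin 2) F) :=
  exists_conj_of_eq (h.not_isScal ht hd) (h.not_isScal (trace_comp2 a d) (det_comp2 a d))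
    (ht.trans (trace_comp2 a d).symm) (hd.trans (det_comp2 a d).symm)

variable [Fintype F]

theorem exists_params (hq : 3 ≤ Fintype.card F) : ∃ a d : F, Params a d := by
  classical
  by_cases h2 : ringChar F = 2
  · haveI : CharP F 2 := h2 ▸ ringChar.charP F
    obtain ⟨c, hc⟩ : ∃ c : F, ∀ x : F, x ^ 2 + x ≠ c := by
      by_contra h
      push Not at h
      have hinj : Function.Injective fun x : F => x ^ 2 + x :=
        Finite.injective_iff_surjective.2 fun c => h c
      refine zero_ne_one (hinj (a₁ := (0 : F)) (a₂ := 1) ?_)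
      simp [CharTwo.add_self_eq_zero]
    obtain ⟨a, ha0, ha⟩ : ∃ a : F, a ≠ 0 ∧ a ^ 2 * c ≠ 1 := by
      by_cases hc1 : c = 1
      · obtain ⟨a, -, ha⟩ := Finset.exists_mem_notMem_of_card_lt_card
          (show ({0, 1} : Finset F).card < (Finset.univ : Finset F).card by
            rw [Finset.card_univ]; exact lt_of_le_of_lt Finset.card_le_two hq)
        simp only [Finset.mem_insert, Finset.mem_singleton, not_or] at ha
        exact ⟨a, ha.1, fun h => ha.2 (CharTwo.sq_injective (by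
          show a ^ 2 = 1 ^ 2
          rw [one_pow]; simpa [hc1] using h))⟩
      · exact ⟨1, one_ne_zero, by simpa using hc1⟩
    refine ⟨a, a ^ 2 * c, ha0, ha, fun x hx => hc (x / a) ?_⟩
    field_simp
    rw [CharTwo.sub_eq_add] at hx
    rw [← sub_eq_zero, CharTwo.sub_eq_add]
    linear_combination hx
  · obtain ⟨n, hn⟩ := FiniteField.exists_nonsquare h2
    have h2' : (2 : F) ≠ 0 := Ring.two_ne_zero h2
    refine ⟨2, 1 - n, h2', fun h => hn ⟨0, by linear_combination -h⟩,
      fun x hx => hn ⟨x - 1, by linear_combination -hx⟩⟩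

/-- The quadratic equation behind the decomposition. -/
theorem exists_conic (hp : Params a d) {T : F} (hT : T ≠ 2) :
    ∃ x z : F, x ^ 2 + T * x * z + z ^ 2 - a * x + a * (1 - T) * z + d = 0 := by
  classical
  by_cases h2 : ringChar F = 2
  · haveI : CharP F 2 := h2 ▸ ringChar.charP F
    have hT0 : T ≠ 0 := fun h => hT (by rw [h, CharTwo.two_eq_zero])
    obtain ⟨x, hx⟩ := FiniteField.isSquare_of_char_two h2
      (-((a / T) ^ 2 + a * (1 - T) * (a / T) + d))
    refine ⟨x, a / T, ?_⟩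
    have e : T * x * (a / T) = a * x := by field_simp
    rw [e]
    linear_combination -hx
  have h2' : (2 : F) ≠ 0 := Ring.two_ne_zero h2
  by_cases hT2 : T = -2
  · subst hT2
    refine ⟨-d / (2 * a), -d / (2 * a), ?_⟩
    have := hp.a_ne
    field_simp
    ring
  have hc : 1 - T ^ 2 / 4 ≠ 0 := by
    intro h
    have h4 : (4 : F) ≠ 0 := by
      have := mul_ne_zero h2' h2'
      norm_num at this ⊢
      exact this
    field_simp at h
    rcases mul_eq_zero.1 (show (T - 2) * (T + 2) = 0 by linear_combination -h) with e | e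
    · exact hT (sub_eq_zero.1 e)
    · exact hT2 (add_eq_zero_iff_eq_neg.1 e)
  obtain ⟨X, z, h⟩ := FiniteField.exists_root_sum_quadratic (R := F) (f := Polynomial.X ^ 2)
    (g := Polynomial.C (1 - T ^ 2 / 4) * Polynomial.X ^ 2 + Polynomial.C (a * (1 - T) + T * a / 2) * Polynomial.X +
      Polynomial.C (d - a ^ 2 / 4))
    (Polynomial.degree_X_pow 2) (Polynomial.degree_quadratic hc) (FiniteField.odd_card_of_char_ne_two h2)
  simp only [Polynomial.eval_pow, Polynomial.eval_X, Polynomial.eval_add, Polynomial.eval_mul,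
    Polynomial.eval_C] at h
  refine ⟨X - (T * z - a) / 2, z, ?_⟩
  have h4 : (4 : F) = 2 * 2 := by norm_num
  rw [h4] at h
  field_simp at h ⊢
  linear_combination h

/-- A matrix of determinant 1 and trace `≠ 2` is the quotient of two members of the class. -/
theorem exists_factor (hp : Params a d) {M : Matrix (Fin 2) (Fin 2) F} (hd : M.det = 1) (hs : ¬ IsScal M)
    (hT : M.trace ≠ 2) :
    ∃ Y : Matrix (Fin 2) (Fin 2) F, Y.trace = a ∧ Y.det = d ∧ (Y * M).trace = a ∧ (Y * M).det = d := by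
  obtain ⟨K, hK⟩ := exists_conj_comp hs
  obtain ⟨x, z, hxz⟩ := exists_conic hp hT
  set T := M.trace
  let Y₀ : Matrix (Fin 2) (Fin 2) F := !![x, z + a - (a - x) * T; z, a - x]
  have h1 : Y₀.trace = a := by simp [Y₀, Matrix.trace_fin_two]
  have h2 : Y₀.det = d := by
    simp [Y₀, Matrix.det_fin_two]
    linear_combination -hxz
  have h3 : (Y₀ * comp2 T M.det).trace = a := by
    simp [Y₀, comp2, hd, Matrix.trace_fin_two, Matrix.mul_apply, Fin.sum_univ_two]
  refine ⟨(K : Matrix (Fin 2) (Fin 2) F) * Y₀ * ((K⁻¹ : _) : Matrix (Fin 2) (Fin 2) F), ?_, ?_, ?_, ?_⟩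
  · rw [Matrix.trace_units_conj, h1]
  · rw [Matrix.det_units_conj, h2]
  all_goals
    have e : (K : Matrix (Fin 2) (Fin 2) F) * Y₀ * ((K⁻¹ : _) : Matrix (Fin 2) (Fin 2) F) * M =
        (K : Matrix (Fin 2) (Fin 2) F) * (Y₀ * comp2 T M.det) * ((K⁻¹ : _) : Matrix (Fin 2) (Fin 2) F) := by
      have hM : ((K⁻¹ : _) : Matrix (Fin 2) (Fin 2) F) * M = comp2 T M.det * ((K⁻¹ : _) : Matrix (Fin 2) (Fin 2) F) := by
        calc ((K⁻¹ : _) : Matrix (Fin 2) (Fin 2) F) * M
            = ((K⁻¹ : _) : Matrix (Fin 2) (Fin 2) F) * (M * K) * ((K⁻¹ : _) : Matrix (Fin 2) (Fin 2) F) := by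
              simp only [mul_assoc, Units.mul_inv, mul_one]
          _ = _ := by rw [hK, ← mul_assoc _ (K : Matrix (Fin 2) (Fin 2) F), Units.inv_mul, one_mul]
      simp only [mul_assoc, hM]
    rw [e]
  · rw [Matrix.trace_units_conj, h3]
  · rw [Matrix.det_units_conj, Matrix.det_mul, h2, det_comp2, hd, mul_one]

theorem comp2_pow (hp : Params a d) : comp2 a d ^ (Fintype.card F ^ 2 - 1) = 1 := by
  classical
  set f : Polynomial F := Polynomial.X ^ 2 + Polynomial.C (-a) * Polynomial.X + Polynomial.C d with hf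
  have hdeg : f.natDegree = 2 := by
    rw [hf, show Polynomial.X ^ 2 = Polynomial.C (1 : F) * Polynomial.X ^ 2 by simp]
    exact Polynomial.natDegree_quadratic one_ne_zero
  have hirr : Irreducible f := by
    rw [Polynomial.irreducible_iff_roots_eq_zero_of_degree_le_three (by omega) (by omega),
      Multiset.eq_zero_iff_forall_notMem]
    intro x hx
    rw [Polynomial.mem_roots', Polynomial.IsRoot] at hx
    refine hp.irred x ?_
    have := hx.2
    simp [hf] at this
    linear_combination this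
  haveI : Fact (Irreducible f) := ⟨hirr⟩
  haveI : FiniteDimensional F (AdjoinRoot f) := (AdjoinRoot.powerBasis hirr.ne_zero).finite
  haveI : Finite (AdjoinRoot f) := Module.finite_of_finite F
  letI : Fintype (AdjoinRoot f) := Fintype.ofFinite _
  have hcard : Fintype.card (AdjoinRoot f) = Fintype.card F ^ 2 := by
    rw [← Nat.card_eq_fintype_card, Module.natCard_eq_pow_finrank (K := F), Nat.card_eq_fintype_card,
      (AdjoinRoot.powerBasis hirr.ne_zero).finrank, AdjoinRoot.powerBasis_dim, hdeg]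
  have hr : AdjoinRoot.root f ≠ 0 := by
    intro h
    have hx : AdjoinRoot.mk f Polynomial.X = 0 := by rw [AdjoinRoot.mk_X, h]
    obtain ⟨c, hc⟩ := AdjoinRoot.mk_eq_zero.1 hx
    have := congrArg Polynomial.natDegree hc
    rw [Polynomial.natDegree_X, Polynomial.natDegree_mul hirr.ne_zero (by rintro rfl; simp at hc)] at this
    omega
  have hpow := FiniteField.pow_card_sub_one_eq_one (AdjoinRoot.root f) hr
  rw [hcard] at hpow
  have hdvd : f ∣ Polynomial.X ^ (Fintype.card F ^ 2 - 1) - 1 := by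
    rw [← AdjoinRoot.mk_eq_zero, map_sub, map_pow, AdjoinRoot.mk_X, hpow, map_one, sub_self]
  have hA : Polynomial.aeval (comp2 a d) f = 0 := by
    simp [hf, comp2, Algebra.algebraMap_eq_smul_one, pow_two]
    ext i j
    fin_cases i <;> fin_cases j <;> simp [Matrix.mul_apply, Fin.sum_univ_two] <;> ring
  obtain ⟨c, hc⟩ := hdvd
  have := congrArg (Polynomial.aeval (comp2 a d)) hc
  rw [map_mul, hA, zero_mul, map_sub, map_pow, Polynomial.aeval_X, map_one, sub_eq_zero] at this
  exact this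

end CfsgLib.PSpFourCover
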